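import Groth.Prelude.Def_PBC
import Mathlib.RingTheory.Etale.Weakly
import Mathlib.RingTheory.Flat.EquationalCriterion
import Mathlib.Algebra.Category.Ring.Under.Basic
import Mathlib.Algebra.Category.Ring.FilteredColimits
import Mathlib.CategoryTheory.Limits.Types.Filtered
import Mathlib.CategoryTheory.Adjunction.Limits

/-!
# Ind-étale algebras: stages, weak étaleness, base change
-/

universe u

open CategoryTheory CategoryTheory.Limits TensorProduct

set_option linter.style.haveILetI false
set_option backward.isDefEq.respectTransparency false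

namespace Groth.Agent.IndEtLib

variable {A B : Type u} [CommRing A] [CommRing B] [Algebra A B]

/-- An étale algebra mapping to `B`. -/
structure Stage (A B : Type u) [CommRing A] [CommRing B] [Algebra A B] : Type (u + 1) where
  E : Type u
  [commRing : CommRing E]
  [algebra : Algebra A E]
  [etale : Algebra.Etale A E]
  φ : E →ₐ[A] B

attribute [instance] Stage.commRing Stage.algebra Stage.etale

/-- A system of stages exhausting `B`. -/
structure System (A B : Type u) [CommRing A] [CommRing B] [Algebra A B] : Type (u + 2) where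
  mem : Stage A B → Prop
  surj : ∀ s : Finset B, ∃ S, mem S ∧ ∀ b ∈ s, ∃ x, S.φ x = b
  kills : ∀ S, mem S → ∀ x : S.E, S.φ x = 0 → ∃ S' : Stage A B, mem S' ∧
    ∃ ψ : S.E →ₐ[A] S'.E, S'.φ.comp ψ = S.φ ∧ ψ x = 0

/-- The stage of a cocone at an index. -/
noncomputable def stageOf {J : Type u} [SmallCategory J] {D : J ⥤ Under (CommRingCat.of A)}
    (hD : ∀ j, letI := (D.obj j).hom.hom.toAlgebra; Algebra.Etale A (D.obj j).right)
    (s : D ⟶ (Functor.const J).obj (Under.mk (CommRingCat.ofHom (algebraMap A B)))) (j : J) : Stage A B :=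
  letI := (D.obj j).hom.hom.toAlgebra
  haveI : Algebra.Etale A (D.obj j).right := hD j
  { E := (D.obj j).right
    φ := { (s.app j).right.hom with commutes' := fun r => congr($(Under.w (s.app j)) r) } }

theorem exists_system (h : EtPBC.IsIndEtale A B) : Nonempty (System A B) := by
  obtain ⟨J, _, _, D, c, hc, hD, ⟨e⟩⟩ := h
  have := IsFiltered.isConnected J
  let c' : Cocone D := c.extend e.hom
  have hc' : IsColimit c' := IsColimit.extendIso e.hom hc
  let G := Under.forget (CommRingCat.of A) ⋙ forget CommRingCat.{u}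
  have hF : IsColimit (G.mapCocone c') := isColimitOfPreserves G hc'
  let stage : J → Stage A B := stageOf hD c'.ι
  let tr : ∀ {i j : J}, (i ⟶ j) → ((stageOf hD c'.ι i).E →ₐ[A] (stageOf hD c'.ι j).E) := fun {i j} f =>
    { (D.map f).right.hom with commutes' := fun r => congr($(Under.w (D.map f)) r) }
  refine ⟨{ mem := fun S => ∃ j, S = stage j, surj := fun s => ?_, kills := ?_ }⟩
  · classical
    induction s using Finset.induction_on with
    | empty => exact ⟨stage (IsFiltered.nonempty.some : J), ⟨_, rfl⟩, by simp⟩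
    | @insert b s _ ih =>
      obtain ⟨_, ⟨i, rfl⟩, hi⟩ := ih
      obtain ⟨j, x, hx⟩ := Types.jointly_surjective _ hF b
      refine ⟨stage (IsFiltered.max i j), ⟨_, rfl⟩, fun a ha => ?_⟩
      rcases Finset.mem_insert.mp ha with rfl | ha
      · exact ⟨tr (IsFiltered.rightToMax i j) x, Eq.trans congr(($(c'.w (IsFiltered.rightToMax i j))).right x) hx⟩
      · obtain ⟨y, hy⟩ := hi a ha
        exact ⟨tr (IsFiltered.leftToMax i j) y, Eq.trans congr(($(c'.w (IsFiltered.leftToMax i j))).right y) hy⟩
  · rintro _ ⟨j, rfl⟩ x hx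
    obtain ⟨k, f, hf⟩ := (Types.FilteredColimit.isColimit_eq_iff' hF x (0 : (D.obj j).right)).mp
      (hx.trans (map_zero (c'.ι.app j).right.hom).symm)
    exact ⟨stage k, ⟨k, rfl⟩, tr f, AlgHom.ext fun y => congr(($(c'.w f)).right y),
      hf.trans (map_zero (D.map f).right.hom)⟩

theorem flat (h : EtPBC.IsIndEtale A B) : Module.Flat A B := by
  obtain ⟨sys⟩ := exists_system h
  classical
  rw [Module.Flat.iff_forall_isTrivialRelation]
  intro l f x hfx
  obtain ⟨S, hS, hx⟩ := sys.surj (Finset.univ.image x)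
  choose x' hx' using fun i => hx (x i) (Finset.mem_image_of_mem x (Finset.mem_univ i))
  obtain ⟨S', -, ψ, hψ, hψ0⟩ := sys.kills S hS (∑ i, f i • x' i) (by simp [hx', hfx])
  rw [map_sum] at hψ0
  simp only [map_smul] at hψ0
  obtain ⟨k, a, y, hxy, ha⟩ := Module.Flat.isTrivialRelation_of_sum_smul_eq_zero hψ0
  refine ⟨k, a, fun j => S'.φ (y j), fun i => ?_, ha⟩
  rw [← hx' i, ← hψ]
  simp [hxy]

theorem flat_lmul (h : EtPBC.IsIndEtale A B) : (Algebra.TensorProduct.lmul' A (S := B)).toRingHom.Flat := by
  obtain ⟨sys⟩ := exists_system h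
  classical
  let _ := (Algebra.TensorProduct.lmul' A (S := B)).toRingHom.toAlgebra
  show Module.Flat (B ⊗[A] B) B
  rw [Module.Flat.iff_forall_isTrivialRelation]
  intro l t x htx
  choose T hT using fun i => TensorProduct.exists_finset (t i)
  obtain ⟨S, hS, hb⟩ := sys.surj
    (Finset.univ.image x ∪ Finset.univ.biUnion fun i => (T i).image Prod.fst ∪ (T i).image Prod.snd)
  choose x' hx' using fun i => hb (x i) (Finset.mem_union_left _ (Finset.mem_image_of_mem x (Finset.mem_univ i)))
  have ht : ∀ i, ∃ t' : S.E ⊗[A] S.E, Algebra.TensorProduct.map S.φ S.φ t' = t i := by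
    intro i
    have : t i ∈ (Algebra.TensorProduct.map S.φ S.φ).range.toSubmodule := by
      rw [hT i]
      refine Submodule.sum_mem _ fun p hp => ?_
      obtain ⟨a, ha⟩ := hb p.1 (Finset.mem_union_right _ (Finset.mem_biUnion.mpr
        ⟨i, Finset.mem_univ i, Finset.mem_union_left _ (Finset.mem_image_of_mem _ hp)⟩))
      obtain ⟨b, hb'⟩ := hb p.2 (Finset.mem_union_right _ (Finset.mem_biUnion.mpr
        ⟨i, Finset.mem_univ i, Finset.mem_union_right _ (Finset.mem_image_of_mem _ hp)⟩))
      exact ⟨a ⊗ₜ b, by rw [← ha, ← hb']; rfl⟩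
    exact this
  choose t' ht' using ht
  have hμ : ∀ (U : Stage A B) (z : U.E ⊗[A] U.E),
      U.φ (Algebra.TensorProduct.lmul' A z) = Algebra.TensorProduct.lmul' A (Algebra.TensorProduct.map U.φ U.φ z) := by
    intro U z
    induction z using TensorProduct.induction_on with
    | zero => simp
    | tmul a b => simp
    | add a b ha hb => simp [ha, hb]
  obtain ⟨S', -, ψ, hψ, hψ0⟩ := sys.kills S hS (∑ i, Algebra.TensorProduct.lmul' A (t' i) * x' i) (by
    rw [map_sum, ← htx]
    exact Finset.sum_congr rfl fun i _ => by rw [map_mul, hμ, ht', hx']; rfl)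
  let _ := (Algebra.TensorProduct.lmul' A (S := S'.E)).toRingHom.toAlgebra
  haveI : Module.Flat (S'.E ⊗[A] S'.E) S'.E := Algebra.WeaklyEtale.flat_lmul' A S'.E
  have hc : ∀ z : S.E ⊗[A] S.E, ψ (Algebra.TensorProduct.lmul' A z) =
      Algebra.TensorProduct.lmul' A (Algebra.TensorProduct.map ψ ψ z) := by
    intro z
    induction z using TensorProduct.induction_on with
    | zero => simp
    | tmul a b => simp
    | add a b ha hb => simp [ha, hb]
  obtain ⟨k, a, y, hxy, ha⟩ := Module.Flat.isTrivialRelation_of_sum_smul_eq_zero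
    (R := S'.E ⊗[A] S'.E) (f := fun i => Algebra.TensorProduct.map ψ ψ (t' i)) (x := fun i => ψ (x' i)) (by
      rw [← hψ0, map_sum]
      exact Finset.sum_congr rfl fun i _ => by rw [map_mul, hc]; rfl)
  let Φ := Algebra.TensorProduct.map S'.φ S'.φ
  have hΦ : ∀ z, Φ (Algebra.TensorProduct.map ψ ψ z) = Algebra.TensorProduct.map S.φ S.φ z := fun z => by
    rw [← hψ, Algebra.TensorProduct.map_comp]; rfl
  refine ⟨k, fun i j => Φ (a i j), fun j => S'.φ (y j), fun i => ?_, fun j => ?_⟩
  · rw [← hx' i, ← hψ, AlgHom.comp_apply, show ψ (x' i) = _ from hxy i, map_sum]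
    refine Finset.sum_congr rfl fun j _ => ?_
    show S'.φ (Algebra.TensorProduct.lmul' A (a i j) * y j) = Algebra.TensorProduct.lmul' A (Φ (a i j)) * S'.φ (y j)
    rw [map_mul, hμ]
  · simpa [hΦ, ht'] using congrArg Φ (ha j)

theorem weaklyEtale (h : EtPBC.IsIndEtale A B) : Algebra.WeaklyEtale A B where
  flat := flat h
  flat_lmul' := flat_lmul h

theorem baseChange (A' : Type u) [CommRing A'] [Algebra A A'] (h : EtPBC.IsIndEtale A B) :
    EtPBC.IsIndEtale A' (A' ⊗[A] B) := by
  obtain ⟨J, _, _, D, c, hc, hD, ⟨e⟩⟩ := h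
  let F := CommRingCat.tensorProd (CommRingCat.of A) (CommRingCat.of A')
  haveI : PreservesColimitsOfShape J F :=
    haveI : PreservesColimitsOfShape J (Under.pushout (CommRingCat.ofHom (algebraMap A A'))) :=
      (Under.mapPushoutAdj _).leftAdjoint_preservesColimits.preservesColimitsOfShape
    preservesColimitsOfShape_of_natIso (CommRingCat.tensorProdIsoPushout _ _).symm
  let U : Under (CommRingCat.of A) := Under.mk (CommRingCat.ofHom (algebraMap A B))
  letI algU : Algebra A U.right := U.hom.hom.toAlgebra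
  let e' : U.right ≃ₐ[A] B :=
    { RingEquiv.refl B with commutes' := fun r => rfl }
  refine ⟨J, inferInstance, inferInstance, D ⋙ F, F.mapCocone c, isColimitOfPreserves F hc, fun j => ?_,
    ⟨F.mapIso e ≪≫ (Algebra.TensorProduct.congr (AlgEquiv.refl : A' ≃ₐ[A'] A') e').toUnder⟩⟩
  let _ := (D.obj j).hom.hom.toAlgebra
  have : Algebra.Etale A (D.obj j).right := hD j
  have h2 : Algebra.Etale A' (A' ⊗[A] (D.obj j).right) := inferInstance
  convert h2 using 1
  all_goals first
    | rfl
    | exact Algebra.algebra_ext _ _ fun r => rfl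

end Groth.Agent.IndEtLib
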