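import Groth.Prelude.Def_PBC
import Mathlib.RingTheory.Localization.BaseChange
import Mathlib.RingTheory.Etale.Weakly
import Mathlib.RingTheory.Etale.Pi
import Mathlib.RingTheory.Localization.Away.Basic
import Mathlib.RingTheory.Flat.FaithfullyFlat.Algebra
import Mathlib.RingTheory.Flat.Localization
import Mathlib.RingTheory.RingHom.Flat
import Mathlib.RingTheory.Jacobson.Ideal

/-!
# Localizations of w-contractible rings
-/

universe u

open TensorProduct

set_option linter.style.haveILetI false

namespace Groth.Agent.IndEtLib

theorem flat_prod {R N F : Type u} [CommRing R] [AddCommGroup N] [Module R N] [Module.Flat R N] [AddCommGroup F]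
    [Module R F] [Module.Flat R F] : Module.Flat R (N × F) := by
  rw [Module.Flat.iff_rTensor_injective']
  intro J
  rw [injective_iff_map_eq_zero]
  intro z hz
  have h1 : (LinearMap.fst R N F).lTensor J z = 0 := by
    apply Module.Flat.rTensor_preserves_injective_linearMap (M := N) (Submodule.subtype J) Subtype.val_injective
    rw [map_zero, ← LinearMap.comp_apply, LinearMap.rTensor_comp_lTensor, ← LinearMap.lTensor_comp_rTensor,
      LinearMap.comp_apply, hz, map_zero]
  have h2 : (LinearMap.snd R N F).lTensor J z = 0 := by
    apply Module.Flat.rTensor_preserves_injective_linearMap (M := F) (Submodule.subtype J) Subtype.val_injective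
    rw [map_zero, ← LinearMap.comp_apply, LinearMap.rTensor_comp_lTensor, ← LinearMap.lTensor_comp_rTensor,
      LinearMap.comp_apply, hz, map_zero]
  have hid : LinearMap.inl R N F ∘ₗ LinearMap.fst R N F + LinearMap.inr R N F ∘ₗ LinearMap.snd R N F =
      LinearMap.id := by ext <;> simp
  have := congrArg (fun f => LinearMap.lTensor (↥J) f z) hid
  simpa [LinearMap.lTensor_add, LinearMap.lTensor_comp, h1, h2] using this.symm

theorem flat_fst (S T : Type u) [CommRing S] [CommRing T] : (RingHom.fst S T).Flat := by
  let _ := (RingHom.fst S T).toAlgebra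
  have : IsLocalization.Away ((1, 0) : S × T) S :=
    IsLocalization.away_of_isIdempotentElem (by ext <;> simp) (by
      ext x
      rw [RingHom.mem_ker, Ideal.mem_span_singleton]
      constructor
      · intro hx
        exact ⟨x, Prod.ext (by simpa using! hx) (by simp)⟩
      · rintro ⟨y, rfl⟩
        show ((1, 1) - (1, 0) : S × T).1 * y.1 = 0
        simp) Prod.fst_surjective
  exact IsLocalization.flat S (Submonoid.powers ((1, 0) : S × T))

theorem flat_snd (S T : Type u) [CommRing S] [CommRing T] : (RingHom.snd S T).Flat :=
  RingHom.Flat.comp (f := (RingEquiv.prodComm : S × T ≃+* T × S).toRingHom) (.of_bijective (RingEquiv.bijective _))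
    (flat_fst T S)

theorem weaklyEtale_prod (R S T : Type u) [CommRing R] [CommRing S] [CommRing T] [Algebra R S] [Algebra R T]
    [Algebra.WeaklyEtale R S] [Algebra.WeaklyEtale R T] : Algebra.WeaklyEtale R (S × T) where
  flat := flat_prod
  flat_lmul' := by
    let p := AlgHom.fst R S T
    let q := AlgHom.snd R S T
    let μ := Algebra.TensorProduct.lmul' R (S := S × T)
    have hp : (p.comp μ).toRingHom.Flat := by
      rw [show p.comp μ = (Algebra.TensorProduct.lmul' R (S := S)).comp (Algebra.TensorProduct.map p p) by
        ext <;> simp [μ, p]]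
      exact .comp (.tensorProductMap (flat_fst S T) (flat_fst S T)) (Algebra.WeaklyEtale.flat_lmul' R S)
    have hq : (q.comp μ).toRingHom.Flat := by
      rw [show q.comp μ = (Algebra.TensorProduct.lmul' R (S := T)).comp (Algebra.TensorProduct.map q q) by
        ext <;> simp [μ, q]]
      exact .comp (.tensorProductMap (flat_snd S T) (flat_snd S T)) (Algebra.WeaklyEtale.flat_lmul' R T)
    algebraize [μ.toRingHom]
    let _ := (p.comp μ).toRingHom.toAlgebra
    let _ := (q.comp μ).toRingHom.toAlgebra
    have : Module.Flat ((S × T) ⊗[R] (S × T)) S := hp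
    have : Module.Flat ((S × T) ⊗[R] (S × T)) T := hq
    haveI : Module.Flat ((S × T) ⊗[R] (S × T)) (S × T) := by
      have h0 : Module.Flat ((S × T) ⊗[R] (S × T)) (S × T) := flat_prod
      convert h0 using 1
    assumption

theorem isWContractible_localization (A B : Type u) [CommRing A] [CommRing B] [Algebra A B] (S : Submonoid A)
    [IsLocalization S B] (E : Finset A) (hB : Set.range (PrimeSpectrum.comap (algebraMap A B)) =
      {x | ∃ z : PrimeSpectrum A, z ∈ PrimeSpectrum.zeroLocus (R := A) E ∧ x ⤳ z}) (hA : EtPBC.IsWContractible A) :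
    EtPBC.IsWContractible B := by
  intro C _ _ hff hwe
  letI : Algebra A C := ((algebraMap B C).comp (algebraMap A B)).toAlgebra
  haveI : IsScalarTower A B C := IsScalarTower.of_algebraMap_eq fun _ => rfl
  haveI hBflat : Module.Flat A B := IsLocalization.flat B S
  haveI : Algebra.WeaklyEtale A B :=
    ⟨hBflat, .of_bijective (by
      have h := IsLocalization.bijective_linearMap_mul' S B (R := A)
      exact h)⟩
  haveI : Algebra.WeaklyEtale A C := .trans A B C
  let D := ∀ e : E, Localization.Away (e : A)
  haveI : ∀ e : E, Algebra.Etale A (Localization.Away (e : A)) := fun e =>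
    Algebra.Etale.of_isLocalizationAway (e : A)
  haveI : Algebra.Etale A D := inferInstance
  haveI : Algebra.WeaklyEtale A (C × D) := weaklyEtale_prod A C D
  have hff' : Module.FaithfullyFlat A (C × D) := Module.FaithfullyFlat.of_comap_surjective fun x => by
    by_cases hx : x ∈ PrimeSpectrum.zeroLocus (R := A) E
    · obtain ⟨y, rfl⟩ : x ∈ Set.range (PrimeSpectrum.comap (algebraMap A B)) := by
        rw [hB]; exact ⟨x, hx, specializes_rfl⟩
      obtain ⟨y', rfl⟩ := PrimeSpectrum.comap_surjective_of_faithfullyFlat (B := C) y
      exact ⟨PrimeSpectrum.comap (RingHom.fst C D) y', rfl⟩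
    · obtain ⟨e, he, hex⟩ := Set.not_subset.mp hx
      obtain ⟨y, rfl⟩ : x ∈ Set.range (PrimeSpectrum.comap (algebraMap A (Localization.Away e))) := by
        rw [PrimeSpectrum.localization_away_comap_range (Localization.Away e) e]; exact hex
      exact ⟨PrimeSpectrum.comap
        ((Pi.evalRingHom (fun e : E => Localization.Away (e : A)) ⟨e, he⟩).comp (RingHom.snd C D)) y, rfl⟩
  obtain ⟨ρ⟩ := hA (C × D) hff' inferInstance
  let φ : C × D →ₐ[A] B := (Algebra.ofId A B).comp ρ
  have hc : ∀ q : Ideal B, q.IsMaximal → φ (0, 1) ∈ q := by
    intro q hq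
    classical
    let x : PrimeSpectrum A := PrimeSpectrum.comap (algebraMap A B) ⟨q, hq.isPrime⟩
    obtain ⟨z, hz, hxz⟩ := hB.le (Set.mem_range_self (⟨q, hq.isPrime⟩ : PrimeSpectrum B))
    obtain ⟨q', hq'⟩ := hB.ge (show z ∈ {x | ∃ z : PrimeSpectrum A, z ∈ PrimeSpectrum.zeroLocus (R := A) E ∧ x ⤳ z} from ⟨z, hz, specializes_rfl⟩)
    have hle : q ≤ q'.asIdeal := by
      rw [← IsLocalization.map_under S B q, ← IsLocalization.map_under S B q'.asIdeal]
      refine Ideal.map_mono ?_
      have := (PrimeSpectrum.le_iff_specializes x z).mpr hxz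
      rw [← hq'] at this
      exact this
    have hqq : q = q'.asIdeal := hq.eq_of_le q'.2.ne_top hle
    have hxe : ∀ e ∈ E, algebraMap A B e ∈ q := fun e he => by
      rw [hqq]
      have : e ∈ (PrimeSpectrum.comap (algebraMap A B) q').asIdeal := hq' ▸ hz he
      exact this
    have key : ∀ s : Finset E, φ (0, fun e => if e ∈ s then 1 else 0) ∈ q := by
      intro s
      induction s using Finset.induction_on with
      | empty =>
        have h0 : (fun e : E => if e ∈ (∅ : Finset E) then (1 : Localization.Away (e : A)) else 0) = (0 : D) :=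
          funext fun e => if_neg (Finset.notMem_empty e)
        rw [h0, show ((0, (0 : D)) : C × D) = 0 from rfl, map_zero]
        exact zero_mem q
      | @insert a s ha ih =>
        let u : D := Pi.single a 1
        have hsplit : ((0, fun e => if e ∈ insert a s then 1 else 0) : C × D) =
            (0, u) + (0, fun e => if e ∈ s then 1 else 0) := by
          refine Prod.ext (add_zero _).symm (funext fun e => ?_)
          show (if e ∈ insert a s then (1 : Localization.Away (e : A)) else 0) =
            Pi.single (M := fun e : E => Localization.Away (e : A)) a 1 e + if e ∈ s then 1 else 0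
          by_cases hea : e = a
          · subst hea; rw [Pi.single_eq_same, if_pos (Finset.mem_insert_self _ _), if_neg ha, add_zero]
          · rw [Pi.single_eq_of_ne hea, zero_add]; simp [hea]
        have hu : ((0, u) : C × D) = algebraMap A (C × D) a * (0, Pi.single a (IsLocalization.Away.invSelf (a : A))) := by
          refine Prod.ext (mul_zero _).symm (funext fun e => ?_)
          by_cases hea : e = a
          · subst hea
            show u e = algebraMap A (Localization.Away (e : A)) (e : A) *
              Pi.single (M := fun e : E => Localization.Away (e : A)) e (IsLocalization.Away.invSelf (e : A)) e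
            rw [Pi.single_eq_same, IsLocalization.Away.mul_invSelf]
            exact Pi.single_eq_same _ _
          · show u e = algebraMap A (Localization.Away (e : A)) (a : A) *
              Pi.single (M := fun e : E => Localization.Away (e : A)) a (IsLocalization.Away.invSelf (a : A)) e
            rw [Pi.single_eq_of_ne hea, mul_zero]
            exact Pi.single_eq_of_ne hea _
        rw [hsplit, map_add]
        refine q.add_mem ?_ ih
        rw [hu, map_mul, φ.commutes]
        exact q.mul_mem_right _ (hxe a a.2)
    have h1 : (fun e : E => if e ∈ (Finset.univ : Finset E) then (1 : Localization.Away (e : A)) else 0) = (1 : D) :=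
      funext fun e => if_pos (Finset.mem_univ e)
    exact h1 ▸ key Finset.univ
  have h0 : φ (0, 1) = 0 := by
    have hid : IsIdempotentElem (φ (0, 1)) := by
      show φ (0, 1) * φ (0, 1) = φ (0, 1)
      rw [← map_mul]
      simp
    have hj : φ (0, 1) ∈ Ideal.jacobson (⊥ : Ideal B) := by
      rw [Ideal.jacobson, Submodule.mem_sInf]
      exact fun q hq => hc q hq.2
    obtain ⟨u, hu⟩ := Ideal.mem_jacobson_bot.mp hj (-1)
    have : φ (0, 1) * (u : B) = 0 := by rw [hu]; linear_combination -hid.eq
    exact (Units.mul_left_eq_zero u).mp this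
  have hz : ∀ y : D, φ (0, y) = 0 := fun y => by
    rw [show ((0, y) : C × D) = (0, 1) * (0, y) by simp, map_mul, h0, zero_mul]
  have hsplit : ∀ (c : C) (y : D), φ (c, 0) = φ (c, y) := fun c y => by
    rw [show ((c, y) : C × D) = (c, 0) + (0, y) by simp, map_add, hz, add_zero]
  let ψ : C →ₐ[A] B :=
    { toFun := fun c => φ (c, 0)
      map_one' := (hsplit 1 1).trans (map_one φ)
      map_mul' := fun x y => by rw [← map_mul, Prod.mk_mul_mk, mul_zero]
      map_zero' := map_zero φ
      map_add' := fun x y => by rw [← map_add, Prod.mk_add_mk, add_zero]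
      commutes' := fun r => (hsplit _ _).trans (φ.commutes r) }
  refine ⟨{ ψ.toRingHom with commutes' := fun b => ?_ }⟩
  have : ψ.toRingHom.comp (algebraMap B C) = RingHom.id B :=
    IsLocalization.ringHom_ext S (RingHom.ext fun a => ψ.commutes a)
  exact congr($this b)

end Groth.Agent.IndEtLib
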