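import Groth.Agent.IndEtLib.Basic
import Mathlib.Algebra.Category.Ring.FinitePresentation
import Mathlib.Algebra.Category.Ring.Colimits
import Mathlib.Algebra.Category.Ring.Constructions
import Mathlib.CategoryTheory.MorphismProperty.Ind
import Mathlib.CategoryTheory.Presentable.StrongGenerator
import Mathlib.RingTheory.Smooth.NoetherianDescent
import Mathlib.RingTheory.RingHom.Etale

/-!
# Ind-étale maps as `MorphismProperty.ind`: accessibility, spreading out, composition
-/

universe u

open CategoryTheory CategoryTheory.Limits TensorProduct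

attribute [local instance] Cardinal.fact_isRegular_aleph0

set_option linter.style.haveILetI false
set_option backward.isDefEq.respectTransparency false

namespace Groth.Agent.IndEtLib

/-- `R[X]` is a finitely presentable strong generator of `Under R`. -/
instance isLocallyFinitelyPresentable_under (R : CommRingCat.{u}) :
    IsLocallyFinitelyPresentable.{u} (Under R) := by
  let G : Under R := CommRingCat.mkUnder R (Polynomial R)
  let pt : ∀ (X : Under R), X.right → (G ⟶ X) := fun X x =>
    (Polynomial.aeval x : Polynomial R →ₐ[R] X.right).toUnder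
  have hpt : ∀ (X : Under R) (x : X.right), (pt X x).right Polynomial.X = x :=
    fun X x => Polynomial.aeval_X (R := R) x
  rw [IsLocallyFinitelyPresentable, IsCardinalLocallyPresentable.iff_exists_isStrongGenerator]
  refine ⟨ObjectProperty.singleton G, inferInstance, ?_, ?_⟩
  · rw [ObjectProperty.isStrongGenerator_iff]
    refine ⟨fun X Y f g h => ?_, fun X Y i _ h => ?_⟩
    · ext x
      have := congr($(h G (by simp) (pt X x)).right Polynomial.X)
      simpa [hpt] using this
    · have hinj : Function.Injective i.right := fun a b hab => by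
        have : pt X a = pt X b := by
          rw [← cancel_mono i]
          refine CommRingCat.mkUnder_ext fun p => ?_
          show i.right (Polynomial.aeval a p) = i.right (Polynomial.aeval b p)
          have e : ∀ x : X.right, i.right (Polynomial.aeval x p) = Polynomial.aeval (i.right x) p :=
            fun x => (Polynomial.aeval_algHom_apply (CommRingCat.toAlgHom i) x p).symm
          rw [e, e]
          exact congrArg (fun y => Polynomial.aeval y p) hab
        simpa [hpt] using congr($(this).right Polynomial.X)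
      have hsurj : Function.Surjective i.right := fun y => by
        obtain ⟨f, hf⟩ := h G (by simp) (pt Y y)
        exact ⟨f.right Polynomial.X, by simpa [hpt] using congr($(hf).right Polynomial.X)⟩
      have : IsIso i.right := (ConcreteCategory.isIso_iff_bijective _).mpr ⟨hinj, hsurj⟩
      have : IsIso ((Under.forget R).map i) := this
      exact isIso_of_reflects_iso i (Under.forget R)
  · rintro X hX
    rw [ObjectProperty.singleton_iff] at hX
    subst hX
    exact CommRingCat.isFinitelyPresentable_under R G
      ((RingHom.finitePresentation_algebraMap (A := R) (B := Polynomial R)).mpr inferInstance)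

/-- Étale ring maps as a morphism property. -/
abbrev etaleP : MorphismProperty CommRingCat.{u} := RingHom.toMorphismProperty RingHom.Etale

theorem etaleP_le : etaleP.{u} ≤ MorphismProperty.isFinitelyPresentable.{u} CommRingCat.{u} :=
  fun _ _ f hf => CommRingCat.isFinitelyPresentable_hom f
    (RingHom.Etale.iff_flat_and_formallyUnramified.mp hf).2.2

instance : etaleP.{u}.RespectsIso :=
  RingHom.toMorphismProperty_respectsIso_iff.mp RingHom.Etale.respectsIso

instance : etaleP.{u}.IsStableUnderCobaseChange :=
  RingHom.isStableUnderCobaseChange_toMorphismProperty_iff.mpr RingHom.Etale.isStableUnderBaseChange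

instance : etaleP.{u}.IsStableUnderComposition :=
  ⟨fun f g hf hg => RingHom.Etale.stableUnderComposition f.hom g.hom hf hg⟩

theorem isIndEtale_iff (A B : Type u) [CommRing A] [CommRing B] [Algebra A B] :
    EtPBC.IsIndEtale A B ↔ MorphismProperty.ind.{u} etaleP (CommRingCat.ofHom (algebraMap A B)) := by
  rw [MorphismProperty.ind_iff_ind_underMk]
  constructor
  · rintro ⟨J, _, _, D, c, hc, hD, ⟨e⟩⟩
    refine ⟨J, inferInstance, inferInstance,
      ⟨D, (c.extend e.hom).ι, IsColimit.extendIso e.hom hc⟩, fun j => ?_⟩
    exact hD j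
  · rintro ⟨J, _, _, pres, h⟩
    exact ⟨J, inferInstance, inferInstance, pres.diag, _, pres.isColimit, fun j => h j, ⟨Iso.refl _⟩⟩

instance : MorphismProperty.PreIndSpreads.{u} etaleP.{u} where
  exists_isPushout {J} _ _ D c hc T f hf := by
    algebraize [f.hom]
    let Z : CommRingCat.{u} := CommRingCat.of (ULift.{u} ℤ)
    letI : Algebra Z c.pt := (CommRingCat.isInitial.to c.pt).hom.toAlgebra
    haveI : Algebra.Etale c.pt T := hf
    haveI : IsNoetherianRing Z := isNoetherianRing_of_ringEquiv ℤ ULift.ringEquiv.symm
    obtain ⟨A₀, B₀, _, _, hfg, hB₀, ⟨e⟩⟩ := Algebra.Etale.exists_subalgebra_fg (R := Z) (A := c.pt) (B := T)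
    haveI : Algebra.FiniteType Z A₀ := (Subalgebra.fg_iff_finiteType A₀).mp hfg
    haveI : Algebra.FinitePresentation Z A₀ := Algebra.FinitePresentation.of_finiteType.mp inferInstance
    let p : Z ⟶ CommRingCat.of A₀ := CommRingCat.ofHom (algebraMap Z A₀)
    have hp : MorphismProperty.isFinitelyPresentable.{u} _ p := CommRingCat.isFinitelyPresentable_hom p
      ((RingHom.finitePresentation_algebraMap (A := Z) (B := A₀)).mpr inferInstance)
    let incl : CommRingCat.of A₀ ⟶ c.pt := CommRingCat.ofHom A₀.val.toRingHom
    obtain ⟨j, q, -, hq⟩ := MorphismProperty.exists_hom_of_isFinitelyPresentable hc hp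
      { app := fun j => CommRingCat.isInitial.to (D.obj j)
        naturality := fun _ _ _ => CommRingCat.isInitial.hom_ext _ _ } incl
      (fun j => CommRingCat.isInitial.hom_ext _ _)
    let b : CommRingCat.of A₀ ⟶ CommRingCat.of B₀ := CommRingCat.ofHom (algebraMap A₀ B₀)
    have hb : etaleP b := RingHom.etale_algebraMap.mpr hB₀
    have h1 : IsPushout incl b (CommRingCat.ofHom Algebra.TensorProduct.includeLeftRingHom)
        (CommRingCat.ofHom (S := c.pt ⊗[A₀] B₀) Algebra.TensorProduct.includeRight.toRingHom) :=
      CommRingCat.isPushout_tensorProduct A₀ c.pt B₀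
    let g₀ : CommRingCat.of B₀ ⟶ T :=
      CommRingCat.ofHom (e.symm.toRingEquiv.toRingHom.comp Algebra.TensorProduct.includeRight.toRingHom)
    have h2 : IsPushout incl b f g₀ := h1.of_iso (Iso.refl _) (Iso.refl _) (Iso.refl _)
      e.symm.toRingEquiv.toCommRingCatIso (by simp) (by simp)
      (by ext x; exact e.symm.commutes x) (by ext x; rfl)
    have h3 : IsPushout q b (pushout.inl q b) (pushout.inr q b) := IsPushout.of_hasPushout q b
    have w : q ≫ c.ι.app j ≫ f = b ≫ g₀ := by rw [reassoc_of% hq]; exact h2.w
    refine ⟨j, pushout q b, pushout.inl q b, h3.desc (c.ι.app j ≫ f) g₀ w, ?_,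
      etaleP.of_isPushout h3 hb⟩
    exact IsPushout.of_left (by rw [hq, IsPushout.inr_desc]; exact h2) (IsPushout.inl_desc h3 _ _ _).symm h3

theorem ind_comp {X Y Z : CommRingCat.{u}} {f : X ⟶ Y} {g : Y ⟶ Z} (hf : MorphismProperty.ind.{u} etaleP f)
    (hg : MorphismProperty.ind.{u} etaleP g) : MorphismProperty.ind.{u} etaleP (f ≫ g) :=
  have := MorphismProperty.IsStableUnderComposition.ind_of_preIndSpreads etaleP_le.{u}
  (MorphismProperty.ind.{u} etaleP).comp_mem f g hf hg

theorem isIndEtale_trans (A B C : Type u) [CommRing A] [CommRing B] [CommRing C] [Algebra A B] [Algebra B C]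
    [Algebra A C] [IsScalarTower A B C] (hAB : EtPBC.IsIndEtale A B) (hBC : EtPBC.IsIndEtale B C) :
    EtPBC.IsIndEtale A C := by
  rw [isIndEtale_iff] at *
  rw [IsScalarTower.algebraMap_eq A B C, CommRingCat.ofHom_comp]
  exact ind_comp hAB hBC

theorem isIndEtale_of_colimit (A B : Type u) [CommRing A] [CommRing B] [Algebra A B] {J : Type u} [SmallCategory J]
    [IsFiltered J] (D : J ⥤ Under (CommRingCat.of A))
    (hD : ∀ j, letI := (D.obj j).hom.hom.toAlgebra; EtPBC.IsIndEtale A ↥(D.obj j).right) (c : Cocone D)
    (hc : IsColimit c) (e : c.pt ≅ Under.mk (CommRingCat.ofHom (algebraMap A B))) : EtPBC.IsIndEtale A B := by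
  rw [isIndEtale_iff, ← MorphismProperty.ind_ind etaleP_le.{u}, MorphismProperty.ind_iff_ind_underMk]
  refine ⟨J, inferInstance, inferInstance, ⟨D, (c.extend e.hom).ι, IsColimit.extendIso e.hom hc⟩, fun j => ?_⟩
  letI := (D.obj j).hom.hom.toAlgebra
  exact (isIndEtale_iff _ _).mp (hD j)

theorem etaleP_cancel {X Y Z : CommRingCat.{u}} {f : X ⟶ Y} {g : Y ⟶ Z} (hf : etaleP f)
    (h : etaleP (f ≫ g)) : etaleP g := by
  algebraize [f.hom, g.hom, g.hom.comp f.hom]
  haveI : Algebra.Etale X Y := hf
  haveI : Algebra.Etale X Z := h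
  exact (Algebra.Etale.of_restrictScalars (R := X) (A := Y) (B := Z))

/-- If `X ⟶ Z` is ind-étale and `X ⟶ Y` is étale, then `Y ⟶ Z` is ind-étale. -/
theorem ind_of_etale_comp {X Y Z : CommRingCat.{u}} {f : X ⟶ Y} {g : Y ⟶ Z} (hf : etaleP f)
    (h : MorphismProperty.ind.{u} etaleP (f ≫ g)) : MorphismProperty.ind.{u} etaleP g := by
  have hsq : IsPushout f (f ≫ g) (pushout.inl f (f ≫ g)) (pushout.inr f (f ≫ g)) := IsPushout.of_hasPushout _ _
  let σ := hsq.desc g (𝟙 Z) (by simp)
  have h1 : MorphismProperty.ind.{u} etaleP (pushout.inl f (f ≫ g)) := MorphismProperty.of_isPushout hsq h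
  have hinr : etaleP (pushout.inr f (f ≫ g)) := etaleP.of_isPushout hsq.flip hf
  have h2 : etaleP σ := etaleP_cancel hinr (by
    rw [hsq.inr_desc]; exact RingHom.Etale.containsIdentities Z)
  rw [← hsq.inl_desc g (𝟙 Z) (by simp)]
  exact ind_comp h1 (MorphismProperty.le_ind _ _ h2)

theorem isIndEtale_of_tower (A B C : Type u) [CommRing A] [CommRing B] [CommRing C] [Algebra A B] [Algebra B C]
    [Algebra A C] [IsScalarTower A B C] (hB : EtPBC.IsIndEtale A B) (hC : EtPBC.IsIndEtale A C) :
    EtPBC.IsIndEtale B C := by
  rw [isIndEtale_iff] at *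
  rw [IsScalarTower.algebraMap_eq A B C, CommRingCat.ofHom_comp] at hC
  set f := CommRingCat.ofHom (algebraMap A B)
  set g := CommRingCat.ofHom (algebraMap B C)
  obtain ⟨J, _, _, D, t, s, hs, hst⟩ := hB
  -- `C` is the colimit of the base changes of `Dⱼ ⟶ C`
  have hgj : ∀ j, MorphismProperty.ind.{u} etaleP (s.app j ≫ g) := fun j =>
    ind_of_etale_comp (hst j).1 (by rw [reassoc_of% (hst j).2]; exact hC)
  haveI := IsFiltered.isConnected J
  let a : D ⟶ (Functor.const J).obj (CommRingCat.of C) := s ≫ (Functor.const J).map g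
  let P := pushout s a
  have hP : IsPushout s a (pushout.inl s a) (pushout.inr s a) := IsPushout.of_hasPushout s a
  let d : P ⟶ (Functor.const J).obj (CommRingCat.of C) := hP.desc ((Functor.const J).map g) (𝟙 _) (by simp [a])
  have hPj : ∀ j, MorphismProperty.ind.{u} etaleP ((pushout.inl s a).app j) := fun j =>
    MorphismProperty.of_isPushout (hP.map ((evaluation J CommRingCat.{u}).obj j)) (hgj j)
  rw [← MorphismProperty.ind_ind etaleP_le.{u}]
  refine ⟨J, inferInstance, inferInstance, P, pushout.inl s a, d, ?_, fun j => ⟨hPj j, ?_⟩⟩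
  · let eD := colimit.isoColimitCocone ⟨_, hs⟩
    let eB := colimit.isoColimitCocone ⟨_, isColimitConstCocone J (CommRingCat.of B)⟩
    let eC := colimit.isoColimitCocone ⟨_, isColimitConstCocone J (CommRingCat.of C)⟩
    have h : IsPushout (colim.map s) (colim.map a) (colim.map (pushout.inl s a))
        (colim.map (pushout.inr s a)) := hP.map colim
    have : IsIso (colim.map s) := by
      have : colim.map s = eD.hom ≫ eB.inv := by
        rw [Iso.eq_comp_inv]
        refine colimit.hom_ext fun j => ?_
        simp [eD, eB]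
      rw [this]; infer_instance
    have : IsIso (colim.map (pushout.inr s a)) := h.isIso_inr_of_isIso
    have hd : pushout.inr s a ≫ d = 𝟙 _ := hP.inr_desc _ _ _
    refine IsColimit.ofIsoColimit (colimit.isColimit P)
      (Cocone.ext ((asIso (colim.map (pushout.inr s a))).symm ≪≫ eC) fun j => ?_)
    have key : colim.map d = inv (colim.map (pushout.inr s a)) := by
      rw [← cancel_epi (colim.map (pushout.inr s a)), ← colim.map_comp, hd, colim.map_id, IsIso.hom_inv_id]
    show colimit.ι P j ≫ (inv (colim.map (pushout.inr s a)) ≫ eC.hom) = d.app j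
    rw [← key]
    simp [eC]
  · exact congr($(hP.inl_desc ((Functor.const J).map g) (𝟙 _) (by simp [a])).app j)

end Groth.Agent.IndEtLib
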