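import Groth.Prelude.Def_ProEtW
import Mathlib.RingTheory.Unramified.LocalStructure
import Mathlib.RingTheory.Etale.Pi
import Mathlib.Algebra.Category.Ring.Basic
import Mathlib.RingTheory.Spectrum.Prime.Chevalley
import Mathlib.RingTheory.Flat.FaithfullyFlat.Algebra
import Mathlib.RingTheory.TensorProduct.Pi
import Mathlib.RingTheory.Smooth.Flat

/-!
# Étale retractions descend to quotient rings
-/

universe u

open Polynomial TensorProduct

set_option linter.style.haveILetI false

namespace Groth.Agent.IndEtLib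

theorem etale_pi (R : Type u) [CommRing R] (F : Bool → Type u) [∀ b, CommRing (F b)] [∀ b, Algebra R (F b)]
    [∀ b, Algebra.Etale R (F b)] : Algebra.Etale R (∀ b, F b) := inferInstance

/-- The family with two members. -/
def boolFam (S T : Type u) : Bool → Type u := fun b => Bool.rec T S b

theorem etale_prod (R S T : Type u) [CommRing R] [CommRing S] [CommRing T] [Algebra R S] [Algebra R T]
    [Algebra.Etale R S] [Algebra.Etale R T] : Algebra.Etale R (S × T) := by
  let _i : ∀ b, CommRing (boolFam S T b) := Bool.rec ‹CommRing T› ‹CommRing S›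
  let _a : ∀ b, Algebra R (boolFam S T b) := Bool.rec ‹Algebra R T› ‹Algebra R S›
  have _e : ∀ b, Algebra.Etale R (boolFam S T b) := Bool.rec ‹Algebra.Etale R T› ‹Algebra.Etale R S›
  let e : (∀ b, boolFam S T b) ≃ₐ[R] S × T :=
    { toFun := fun x => (x true, x false)
      invFun := fun y b => Bool.rec y.2 y.1 b
      left_inv := fun x => by funext b; cases b <;> rfl
      right_inv := fun _ => rfl
      map_mul' := fun _ _ => rfl
      map_add' := fun _ _ => rfl
      commutes' := fun _ => rfl }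
  haveI hpi : Algebra.Etale R (∀ b, boolFam S T b) :=
    @etale_pi R _ (boolFam S T) _i _a _e
  exact Algebra.Etale.of_equiv e

variable {A : Type u} [CommRing A] (I : Ideal A)

noncomputable instance algRing (P : StandardEtalePair (A ⧸ I)) : Algebra A P.Ring :=
  ((algebraMap (A ⧸ I) P.Ring).comp (Ideal.Quotient.mk I)).toAlgebra

instance (P : StandardEtalePair (A ⧸ I)) : IsScalarTower A (A ⧸ I) P.Ring :=
  IsScalarTower.of_algebraMap_eq fun _ => rfl

theorem exists_lift_pair (P : StandardEtalePair (A ⧸ I)) : ∃ Q : StandardEtalePair A,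
    Q.HasMap P.X ∧ P.HasMap ((1 : A ⧸ I) ⊗ₜ[A] Q.X : (A ⧸ I) ⊗[A] Q.Ring) := by
  obtain ⟨f, hf, hfm⟩ : ∃ f : A[X], f.map (Ideal.Quotient.mk I) = P.f ∧ f.Monic := by
    rcases subsingleton_or_nontrivial (A ⧸ I) with hsub | hnt
    · exact ⟨1, Subsingleton.elim _ _, monic_one⟩
    · obtain ⟨f, hf, -, hfm⟩ := Polynomial.lifts_and_degree_eq_and_monic
        (Polynomial.map_surjective _ Ideal.Quotient.mk_surjective P.f) P.monic_f
      exact ⟨f, hf, hfm⟩
  obtain ⟨g, hg⟩ := Polynomial.map_surjective _ (Ideal.Quotient.mk_surjective (I := I)) P.g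
  let Q : StandardEtalePair A := ⟨f, hfm, g * derivative f, g, 0, 1, by ring⟩
  have hfd : (derivative f).map (algebraMap A (A ⧸ I)) = derivative P.f := by
    rw [← derivative_map, Ideal.Quotient.algebraMap_eq, hf]
  refine ⟨Q, ⟨?_, ?_⟩, ?_, ?_⟩
  · rw [← aeval_map_algebraMap (A ⧸ I), Ideal.Quotient.algebraMap_eq, hf]; exact P.hasMap_X.1
  · rw [map_mul, ← aeval_map_algebraMap (A ⧸ I) _ g, ← aeval_map_algebraMap (A ⧸ I) _ (derivative f), hfd,
      Ideal.Quotient.algebraMap_eq, hg]
    exact P.hasMap_X.2.mul P.hasMap_X.isUnit_derivative_f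
  · rw [← hf, ← Ideal.Quotient.algebraMap_eq, aeval_map_algebraMap]
    exact (Q.hasMap_X.map (Algebra.TensorProduct.includeRight : Q.Ring →ₐ[A] (A ⧸ I) ⊗[A] Q.Ring)).1
  · rw [← hg, ← Ideal.Quotient.algebraMap_eq, aeval_map_algebraMap]
    have h : IsUnit (aeval ((1 : A ⧸ I) ⊗ₜ[A] Q.X) (g * derivative f)) :=
      (Q.hasMap_X.map (Algebra.TensorProduct.includeRight : Q.Ring →ₐ[A] (A ⧸ I) ⊗[A] Q.Ring)).2
    rw [map_mul] at h
    exact isUnit_of_mul_isUnit_left h

theorem hasEtaleRetractions_quotient (h : ProEtW.HasEtaleRetractions A) :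
    ProEtW.HasEtaleRetractions (A ⧸ I) := by
  intro B _ _ hff het
  classical
  choose s hs hstd using fun Q : PrimeSpectrum B => Algebra.IsEtaleAt.exists_isStandardEtale (R := A ⧸ I) Q.asIdeal
  let P := fun Q => (hstd Q).nonempty_standardEtalePresentation.some
  choose L hL hL' using fun Q => exists_lift_pair I (P Q).P
  obtain ⟨t, ht⟩ := isCompact_univ.elim_finite_subcover (fun Q => (PrimeSpectrum.basicOpen (s Q) : Set (PrimeSpectrum B)))
    (fun Q => (PrimeSpectrum.basicOpen (s Q)).isOpen) (fun Q _ => Set.mem_iUnion.mpr ⟨Q, hs Q⟩)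
  let C₁ := ∀ i : t, (L i).Ring
  let U : Set (PrimeSpectrum A) := ⋃ i : t, Set.range (PrimeSpectrum.comap (algebraMap A (L i).Ring))
  have hU : IsOpen U := isOpen_iUnion fun i =>
    PrimeSpectrum.isOpenMap_comap_of_hasGoingDown_of_finitePresentation.isOpen_range
  -- the lifted pieces cover the zero locus of `I`
  have hIU : PrimeSpectrum.zeroLocus (I : Set A) ⊆ U := by
    intro p hp
    have hker : RingHom.ker (algebraMap A (A ⧸ I)) ≤ p.asIdeal := by
      rw [Ideal.Quotient.algebraMap_eq, Ideal.mk_ker]; exact hp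
    obtain ⟨q, rfl⟩ : p ∈ Set.range (PrimeSpectrum.comap (algebraMap A (A ⧸ I))) := by
      rw [Ideal.Quotient.algebraMap_eq, range_comap_of_surjective _ _ Ideal.Quotient.mk_surjective]; exact hker
    obtain ⟨Q, rfl⟩ := PrimeSpectrum.comap_surjective_of_faithfullyFlat (B := B) q
    obtain ⟨Q₀, hQ₀, hQQ⟩ := Set.mem_iUnion₂.mp (ht (Set.mem_univ Q))
    obtain ⟨Q', hQ'⟩ : Q ∈ Set.range (PrimeSpectrum.comap (algebraMap B (Localization.Away (s Q₀)))) := by
      rw [PrimeSpectrum.localization_away_comap_range (Localization.Away (s Q₀)) (s Q₀)]; exact hQQ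
    let ψ : (L Q₀).Ring →+* Localization.Away (s Q₀) :=
      (P Q₀).equivRing.symm.toAlgHom.toRingHom.comp ((L Q₀).lift _ (hL Q₀)).toRingHom
    refine Set.mem_iUnion.mpr ⟨⟨Q₀, hQ₀⟩, PrimeSpectrum.comap ψ Q', ?_⟩
    rw [← hQ', ← PrimeSpectrum.comap_comp_apply, ← PrimeSpectrum.comap_comp_apply, ← PrimeSpectrum.comap_comp_apply]
    congr 1
    ext a
    show (P Q₀).equivRing.symm ((L Q₀).lift _ (hL Q₀) (algebraMap A (L Q₀).Ring a)) = _
    rw [AlgHom.commutes, IsScalarTower.algebraMap_apply A (A ⧸ I) (P Q₀).P.Ring, AlgEquiv.commutes]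
    exact IsScalarTower.algebraMap_apply (A ⧸ I) B (Localization.Away (s Q₀)) _
  obtain ⟨K, hK⟩ := (PrimeSpectrum.isClosed_iff_zeroLocus_ideal _).mp hU.isClosed_compl
  obtain ⟨a, haI, k, hk, hak⟩ : ∃ a ∈ I, ∃ k ∈ K, a + k = 1 := by
    rw [← Submodule.mem_sup, ← Ideal.eq_top_iff_one, ← PrimeSpectrum.zeroLocus_empty_iff_eq_top,
      PrimeSpectrum.zeroLocus_sup, ← hK, Set.eq_empty_iff_forall_notMem]
    exact fun p hp => hp.2 (hIU hp.1)
  let C := C₁ × Localization.Away a
  have : Algebra.Etale A C := etale_prod A C₁ (Localization.Away a)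
  have : Module.Flat A C := inferInstance
  have hC : Module.FaithfullyFlat A C := Module.FaithfullyFlat.of_comap_surjective fun p => by
    by_cases hp : p ∈ U
    · obtain ⟨i, q, rfl⟩ := Set.mem_iUnion.mp hp
      exact ⟨PrimeSpectrum.comap ((Pi.evalRingHom (fun i : t => (L i).Ring) i).comp (RingHom.fst C₁ _)) q, rfl⟩
    · have hpa : a ∉ p.asIdeal := fun h' => p.2.ne_top <| (Ideal.eq_top_iff_one _).mpr
        (hak ▸ add_mem h' ((hK.le hp) hk))
      obtain ⟨q, rfl⟩ : p ∈ Set.range (PrimeSpectrum.comap (algebraMap A (Localization.Away a))) := by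
        rw [PrimeSpectrum.localization_away_comap_range (Localization.Away a) a]; exact hpa
      exact ⟨PrimeSpectrum.comap (RingHom.snd C₁ _) q, rfl⟩
  obtain ⟨ρ⟩ := h C hC ‹_›
  let φ : C →ₐ[A] A ⧸ I := (Algebra.ofId A (A ⧸ I)).comp ρ
  have h01 : φ (0, 1) = 0 := by
    have hu : ((0, 1) : C) = algebraMap A C a * (0, IsLocalization.Away.invSelf a) :=
      Prod.ext (mul_zero _).symm (IsLocalization.Away.mul_invSelf (S := Localization.Away a) a).symm
    rw [hu, map_mul, φ.commutes, Ideal.Quotient.algebraMap_eq, Ideal.Quotient.eq_zero_iff_mem.mpr haI, zero_mul]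
  have hz : ∀ y : Localization.Away a, φ (0, y) = 0 := fun y => by
    rw [show ((0, y) : C) = (0, 1) * (0, y) by simp, map_mul, h01, zero_mul]
  have h1 : φ (1, 0) = 1 := by
    have := map_add φ (1, 0) (0, 1)
    rw [h01, add_zero, Prod.mk_add_mk, add_zero, zero_add] at this
    exact this.symm.trans (map_one φ)
  let φ' : C₁ →ₐ[A] A ⧸ I :=
    { toFun := fun y => φ (y, 0)
      map_one' := h1
      map_mul' := fun x y => by rw [← map_mul, Prod.mk_mul_mk, mul_zero]
      map_zero' := map_zero φ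
      map_add' := fun x y => by rw [← map_add, Prod.mk_add_mk, add_zero]
      commutes' := fun r => by
        show φ (algebraMap A C₁ r, 0) = _
        have := map_add φ (algebraMap A C₁ r, 0) (0, algebraMap A _ r)
        rw [hz, add_zero, Prod.mk_add_mk, add_zero, zero_add] at this
        exact this.symm.trans (φ.commutes r) }
  let g : ∀ i : t, B →ₐ[A ⧸ I] (A ⧸ I) ⊗[A] (L i).Ring := fun i =>
    ((P i).P.lift _ (hL' i)).comp ((P i).equivRing.toAlgHom.comp (IsScalarTower.toAlgHom (A ⧸ I) B _))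
  let ev : (A ⧸ I) ⊗[A] C₁ →ₐ[A ⧸ I] A ⧸ I := Algebra.TensorProduct.lift (AlgHom.id _ _) φ' fun _ _ => .all _ _
  exact ⟨(ev.comp (Algebra.TensorProduct.piRight A (A ⧸ I) (A ⧸ I) fun i : t => (L i).Ring).symm.toAlgHom).comp
    (AlgHom.pi g)⟩

end Groth.Agent.IndEtLib
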