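import Groth.Prelude.Def_PBC
import Groth.Agent.S7566
import Mathlib.RingTheory.LocalIso
import Mathlib.Algebra.Category.Ring.FilteredColimits
import Mathlib.CategoryTheory.Limits.Types.Filtered
import Mathlib.RingTheory.Spectrum.Prime.Topology

/-!
# Closed unions of connected components are cut out by ind-Zariski quotients
-/

universe u

open CategoryTheory CategoryTheory.Limits

set_option linter.style.haveILetI false
set_option backward.isDefEq.respectTransparency false

namespace Groth.Agent.IndEtLib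

variable {A : Type u} [CommRing A]

theorem isLocalIso_quotient_idempotent {e : A} (he : IsIdempotentElem e) :
    Algebra.IsLocalIso A (A ⧸ Ideal.span {e}) := by
  have : IsLocalization.Away (1 - e) (A ⧸ Ideal.span {e}) :=
    IsLocalization.away_of_isIdempotentElem he.one_sub (by rw [sub_sub_cancel]; exact Ideal.mk_ker)
      Ideal.Quotient.mk_surjective
  have : Algebra.IsStandardOpenImmersion A (A ⧸ Ideal.span {e}) := ⟨⟨1 - e, this⟩⟩
  infer_instance

/-- The quotient by a directed family of idempotents is ind-Zariski. -/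
theorem isIndZariski_quotient (E : Set A) (hne : E.Nonempty) (hE : ∀ e ∈ E, IsIdempotentElem e)
    (hdir : ∀ e ∈ E, ∀ f ∈ E, ∃ g ∈ E, g * e = e ∧ g * f = f) :
    EtPBC.IsIndZariski A (A ⧸ Ideal.span E) := by
  let J : Type u := E
  letI : Preorder J :=
    { le := fun e f => f.1 * e.1 = e.1
      le_refl := fun e => hE e.1 e.2
      le_trans := fun a b c h h' => by
        show c.1 * a.1 = a.1
        rw [← (h : b.1 * a.1 = a.1), ← mul_assoc, (h' : c.1 * b.1 = b.1)] }
  haveI : IsDirectedOrder J := ⟨fun a b => by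
    obtain ⟨g, hg, h1, h2⟩ := hdir a.1 a.2 b.1 b.2
    exact ⟨⟨g, hg⟩, h1, h2⟩⟩
  haveI : Nonempty J := hne.to_subtype
  haveI := IsFiltered.isConnected J
  have hle : ∀ i j : J, i ≤ j → Ideal.span {i.1} ≤ Ideal.span {j.1} := fun i j h => by
    rw [Ideal.span_singleton_le_span_singleton]
    exact ⟨i.1, (h : j.1 * i.1 = i.1).symm⟩
  let D : J ⥤ Under (CommRingCat.of A) :=
    { obj := fun j => Under.mk (CommRingCat.ofHom (algebraMap A (A ⧸ Ideal.span {j.1})))
      map := fun {i j} f => Under.homMk (CommRingCat.ofHom (Ideal.Quotient.factor (hle i j (leOfHom f)))) rfl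
      map_id := fun i => by ext x; obtain ⟨x, rfl⟩ := Ideal.Quotient.mk_surjective x; rfl
      map_comp := fun f g => by ext x; obtain ⟨x, rfl⟩ := Ideal.Quotient.mk_surjective x; rfl }
  have hsub : ∀ j : J, Ideal.span {j.1} ≤ Ideal.span E := fun j => Ideal.span_mono (by simp [j.2])
  let c : Cocone D :=
    { pt := Under.mk (CommRingCat.ofHom (algebraMap A (A ⧸ Ideal.span E)))
      ι :=
        { app := fun j => Under.homMk (CommRingCat.ofHom (Ideal.Quotient.factor (hsub j))) rfl
          naturality := fun i j f => by ext x; obtain ⟨x, rfl⟩ := Ideal.Quotient.mk_surjective x; rfl } }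
  have hmem : ∀ x ∈ Ideal.span E, ∃ j : J, x ∈ Ideal.span {j.1} := by
    intro x hx
    induction hx using Submodule.span_induction with
    | mem y hy => exact ⟨⟨y, hy⟩, Ideal.mem_span_singleton_self y⟩
    | zero => exact ⟨Classical.arbitrary J, Submodule.zero_mem _⟩
    | add y z _ _ hy hz =>
      obtain ⟨a, ha⟩ := hy
      obtain ⟨b, hb⟩ := hz
      obtain ⟨k, h1, h2⟩ := directed_of (· ≤ ·) a b
      exact ⟨k, add_mem (hle a k h1 ha) (hle b k h2 hb)⟩
    | smul r y _ hy =>
      obtain ⟨a, ha⟩ := hy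
      exact ⟨a, Submodule.smul_mem _ r ha⟩
  haveI : ReflectsColimitsOfShape J (Under.forget (CommRingCat.of A) ⋙ forget CommRingCat.{u}) :=
    reflectsColimitsOfShape_of_reflectsIsomorphisms
  refine ⟨J, inferInstance, inferInstance, D, c, ?_, fun j => ?_, ⟨Iso.refl _⟩⟩
  · refine isColimitOfReflects (Under.forget (CommRingCat.of A) ⋙ forget CommRingCat.{u}) ?_
    refine Types.FilteredColimit.isColimitOf _ _ ?_ ?_
    · intro b
      obtain ⟨b, rfl⟩ := Ideal.Quotient.mk_surjective b
      exact ⟨Classical.arbitrary J, Ideal.Quotient.mk _ b, rfl⟩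
    · intro i j x y hxy
      obtain ⟨x, rfl⟩ := Ideal.Quotient.mk_surjective x
      obtain ⟨y, rfl⟩ := Ideal.Quotient.mk_surjective y
      obtain ⟨k, hk⟩ := hmem (x - y) (Ideal.Quotient.eq.mp hxy)
      obtain ⟨l, h1, h2⟩ := directed_of (· ≤ ·) i k
      obtain ⟨m, h3, h4⟩ := directed_of (· ≤ ·) l j
      exact ⟨m, homOfLE (h1.trans h3), homOfLE h4, Ideal.Quotient.eq.mpr (hle k m (h2.trans h3) hk)⟩
  · convert isLocalIso_quotient_idempotent (hE j.1 j.2) using 1
    all_goals rfl

theorem exists_indZariski_preimage (A : Type u) [CommRing A] (T : Set (_root_.ConnectedComponents (PrimeSpectrum A)))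
    (hT : IsClosed T) : ∃ (B : Type u) (_ : CommRing B) (_ : Algebra A B),
      EtPBC.IsIndZariski A B ∧ Function.Surjective (algebraMap A B) ∧
      Topology.IsEmbedding (PrimeSpectrum.comap (algebraMap A B)) ∧
      Set.range (PrimeSpectrum.comap (algebraMap A B)) = _root_.ConnectedComponents.mk ⁻¹' T := by
  set Z : Set (PrimeSpectrum A) := _root_.ConnectedComponents.mk ⁻¹' T with hZdef
  have hZ : IsClosed Z := hT.preimage ConnectedComponents.continuous_coe
  let E : Set A := {e | IsIdempotentElem e ∧ Z ⊆ PrimeSpectrum.zeroLocus {e}}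
  have hdir : ∀ e ∈ E, ∀ f ∈ E, ∃ g ∈ E, g * e = e ∧ g * f = f := by
    intro e he f hf
    have e1 : e * e = e := he.1
    have f1 : f * f = f := hf.1
    refine ⟨e + f - e * f, ⟨?_, fun p hp => ?_⟩, ?_, ?_⟩
    · show _ = _
      linear_combination (1 - 2 * f + f * f) * e1 + (1 - e) * f1
    · have h1 : e ∈ p.asIdeal := by simpa using he.2 hp
      have h2 : f ∈ p.asIdeal := by simpa using hf.2 hp
      simpa using p.asIdeal.sub_mem (p.asIdeal.add_mem h1 h2) (p.asIdeal.mul_mem_right f h1)
    · linear_combination (1 - f) * e1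
    · linear_combination (1 - e) * f1
  have hne : E.Nonempty := ⟨0, IsIdempotentElem.zero, by simp [PrimeSpectrum.zeroLocus]⟩
  refine ⟨A ⧸ Ideal.span E, inferInstance, inferInstance,
    isIndZariski_quotient E hne (fun e he => he.1) hdir, Ideal.Quotient.mk_surjective,
    (PrimeSpectrum.isClosedEmbedding_comap_of_surjective _ _ Ideal.Quotient.mk_surjective).isEmbedding, ?_⟩
  rw [Ideal.Quotient.algebraMap_eq, range_comap_of_surjective _ _ Ideal.Quotient.mk_surjective,
    Ideal.mk_ker, PrimeSpectrum.zeroLocus_span]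
  refine Set.Subset.antisymm (fun x hx => ?_) fun x hx e he => Set.singleton_subset_iff.mp (he.2 hx)
  by_contra hxZ
  have hdisj : Disjoint Z (connectedComponent x) := Set.disjoint_left.mpr fun y hy hyx => hxZ (by
    show _root_.ConnectedComponents.mk x ∈ T
    rw [← ConnectedComponents.coe_eq_coe'.mpr hyx]; exact hy)
  rw [Groth.Agent.S7566.result x] at hdisj
  obtain ⟨t, ht⟩ := hZ.isCompact.elim_finite_subfamily_closed
    (fun C : {C : Set (PrimeSpectrum A) | IsClopen C ∧ x ∈ C} => C.1) (fun C => C.2.1.1) (by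
      rw [Set.eq_empty_iff_forall_notMem]
      rintro y ⟨hy, hy'⟩
      exact Set.disjoint_left.mp hdisj hy fun C hC => Set.mem_iInter.mp hy' ⟨C, hC⟩)
  have hC : IsClopen (⋂ C ∈ t, (C : {C : Set (PrimeSpectrum A) | IsClopen C ∧ x ∈ C}).1) :=
    isClopen_biInter_finset fun C _ => C.2.1
  obtain ⟨e, he, heq⟩ := PrimeSpectrum.exists_idempotent_basicOpen_eq_of_isClopen hC
  have heE : e ∈ E := ⟨he, fun y hy => by
    rw [PrimeSpectrum.mem_zeroLocus, Set.singleton_subset_iff]
    by_contra hey
    have hyC : y ∈ ⋂ C ∈ t, (C : {C : Set (PrimeSpectrum A) | IsClopen C ∧ x ∈ C}).1 := heq ▸ hey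
    exact Set.eq_empty_iff_forall_notMem.mp ht y ⟨hy, hyC⟩⟩
  have hxC : x ∈ (PrimeSpectrum.basicOpen e : Set (PrimeSpectrum A)) :=
    heq ▸ Set.mem_iInter₂.mpr fun C _ => C.2.2
  exact hxC (hx heE)

end Groth.Agent.IndEtLib
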