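import Groth.Agent.IndEtLib.Basic
import Groth.Agent.Hensel.Etale
import Mathlib.RingTheory.Henselian
import Mathlib.RingTheory.Ideal.Quotient.Operations

universe u

open CategoryTheory CategoryTheory.Limits TensorProduct

set_option linter.style.haveILetI false
set_option backward.isDefEq.respectTransparency false

namespace Groth.Agent.IndEtLib

variable {R S S' K : Type u} [CommRing R] [CommRing S] [CommRing S'] [Field K] [HenselianLocalRing S']
  [Algebra R S] [Algebra R S'] [Algebra R K]

theorem existsUnique_lift_stage (u' : S' →ₐ[R] K) (hu' : Function.Surjective u')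
    (hku' : RingHom.ker u'.toRingHom = IsLocalRing.maximalIdeal S') {E : Type u} [CommRing E] [Algebra R E]
    [Algebra.Etale R E] (χ : E →ₐ[R] K) : ∃! τ : E →ₐ[R] S', u'.comp τ = χ := by
  classical
  have hq : ∀ x : S', (x ∈ IsLocalRing.maximalIdeal S' ↔ u' x = 0) := fun x => by rw [← hku']; rfl
  let m := IsLocalRing.maximalIdeal S'
  let q : (S' ⧸ m) →ₐ[R] K :=
    Ideal.Quotient.liftₐ m u' fun x hx => (hq x).1 hx
  have hqb : Function.Bijective q := by
    refine ⟨(injective_iff_map_eq_zero q).2 fun x hx => ?_, fun z => ?_⟩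
    · obtain ⟨x, rfl⟩ := Ideal.Quotient.mk_surjective x
      exact Ideal.Quotient.eq_zero_iff_mem.2 ((hq x).2 hx)
    · obtain ⟨x, rfl⟩ := hu' z
      exact ⟨Ideal.Quotient.mk m x, rfl⟩
  let σ : S' ⊗[R] E →ₐ[S'] S' ⧸ m :=
    Algebra.TensorProduct.lift (Algebra.ofId S' (S' ⧸ m))
      ((AlgEquiv.ofBijective q hqb).symm.toAlgHom.comp χ) fun a b => Commute.all _ _
  obtain ⟨τ, hτ⟩ := Hensel.exists_algHom_lift_of_gRoot
    (Hensel.henselianRing_iff_gRoot.1 (inferInstance : HenselianRing S' (IsLocalRing.maximalIdeal S'))) σ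
  refine ⟨(τ.restrictScalars R).comp Algebra.TensorProduct.includeRight, ?_, ?_⟩
  · refine AlgHom.ext fun x => ?_
    have h1 : q (Ideal.Quotient.mk m (τ ((1 : S') ⊗ₜ x))) = χ x := by
      rw [hτ, show σ ((1 : S') ⊗ₜ[R] x) = (AlgEquiv.ofBijective q hqb).symm (χ x) from
        (Algebra.TensorProduct.lift_tmul _ _ _ _ _).trans (by rw [map_one, one_mul]; rfl)]
      exact (AlgEquiv.ofBijective q hqb).apply_symm_apply (χ x)
    exact h1
  · intro τ₂ hτ₂
    obtain ⟨t, ht, ht1⟩ := (Algebra.FormallyUnramified.iff_exists_tensorProduct (R := R) (S := E)).mp inferInstance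
    let f : E →ₐ[R] S' := (τ.restrictScalars R).comp Algebra.TensorProduct.includeRight
    have hf : u'.comp f = χ := AlgHom.ext fun x => by
      have h1 : q (Ideal.Quotient.mk m (τ ((1 : S') ⊗ₜ x))) = χ x := by
        rw [hτ, show σ ((1 : S') ⊗ₜ[R] x) = (AlgEquiv.ofBijective q hqb).symm (χ x) from
          (Algebra.TensorProduct.lift_tmul _ _ _ _ _).trans (by rw [map_one, one_mul]; rfl)]
        exact (AlgEquiv.ofBijective q hqb).apply_symm_apply (χ x)
      exact h1
    let P : E ⊗[R] E →ₐ[R] S' := Algebra.TensorProduct.productMap f τ₂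
    have hP : ∀ z, u' (P z) = χ (Algebra.TensorProduct.lmul' R z) := fun z => by
      induction z using TensorProduct.induction_on with
      | zero => simp
      | tmul a b =>
        simp only [P, Algebra.TensorProduct.productMap_apply_tmul, map_mul,
          Algebra.TensorProduct.lmul'_apply_tmul]
        congr 1
        · exact congr($hf a)
        · exact congr($hτ₂ b)
      | add a b ha hb => simp only [map_add, ha, hb]
    have hu : IsUnit (P t) := IsLocalRing.notMem_maximalIdeal.1 fun hmem => by
      have := (hq _).1 hmem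
      rw [hP, ht1, map_one] at this
      exact one_ne_zero this
    refine AlgHom.ext fun x => ?_
    have h0 : (τ₂ x - f x) * P t = 0 := by
      have h1 := congrArg P (ht x)
      rw [map_zero, map_mul, map_sub] at h1
      simpa [P] using h1
    rw [hu.mul_left_eq_zero, sub_eq_zero] at h0
    exact h0

/-- unique map from an ind-étale algebra to a henselian local ring over a residue map -/
theorem existsUnique_lift (hS : EtPBC.IsIndEtale R S) (u : S →ₐ[R] K) (u' : S' →ₐ[R] K)
    (hu' : Function.Surjective u') (hku' : RingHom.ker u'.toRingHom = IsLocalRing.maximalIdeal S') :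
    ∃! g : S →ₐ[R] S', u'.comp g = u := by
  obtain ⟨J, _, _, D, c, hc, hD, ⟨e⟩⟩ := hS
  let c' : Cocone D := c.extend e.hom
  have hc' : IsColimit c' := IsColimit.extendIso e.hom hc
  let st : J → Stage R S := stageOf hD c'.ι
  have key := fun j => existsUnique_lift_stage u' hu' hku' (u.comp (st j).φ)
  choose τ hτ hτu using key
  let tr : ∀ {i j : J}, (i ⟶ j) → ((st i).E →ₐ[R] (st j).E) := fun {i j} f =>
    { (D.map f).right.hom with commutes' := fun r => congr($(Under.w (D.map f)) r) }
  have htr : ∀ {i j : J} (f : i ⟶ j), (st j).φ.comp (tr f) = (st i).φ := fun {i j} f =>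
    AlgHom.ext fun y => congr(($(c'.w f)).right y)
  have hnat : ∀ {i j : J} (f : i ⟶ j), (τ j).comp (tr f) = τ i := fun {i j} f =>
    hτu i _ (by change u'.comp ((τ j).comp (tr f)) = u.comp (st i).φ
                rw [← AlgHom.comp_assoc, show u'.comp (τ j) = u.comp (st j).φ from hτ j, AlgHom.comp_assoc, htr])
  let s : Cocone D :=
    { pt := Under.mk (CommRingCat.ofHom (algebraMap R S'))
      ι :=
        { app := fun j => Under.homMk (CommRingCat.ofHom (τ j).toRingHom)
            (CommRingCat.hom_ext (RingHom.ext fun r => (τ j).commutes r))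
          naturality := fun i j f => by
            apply Under.UnderMorphism.ext
            refine CommRingCat.hom_ext (RingHom.ext fun y => ?_)
            exact AlgHom.congr_fun (hnat f) y } }
  let d := hc'.desc s
  let g : S →ₐ[R] S' := { d.right.hom with commutes' := fun r => congr($(Under.w d) r) }
  have hg : ∀ j (y : (st j).E), g ((st j).φ y) = τ j y := fun j y =>
    congr(($(hc'.fac s j)).right y)
  have hext : ∀ (T : Type u) [CommRing T] [Algebra R T] (a b : S →ₐ[R] T),
      (∀ j (y : (st j).E), a ((st j).φ y) = b ((st j).φ y)) → a = b := by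
    intro T _ _ a b h
    let am : ∀ (z : S →ₐ[R] T), c'.pt ⟶ Under.mk (CommRingCat.ofHom (algebraMap R T)) := fun z =>
      Under.homMk (CommRingCat.ofHom z.toRingHom) (CommRingCat.hom_ext (RingHom.ext fun r => z.commutes r))
    have hab : am a = am b := hc'.hom_ext fun j => by
      apply Under.UnderMorphism.ext
      exact CommRingCat.hom_ext (RingHom.ext fun y => h j y)
    exact AlgHom.ext fun y => congr(($hab).right y)
  refine ⟨g, hext K _ _ fun j y => ?_, fun g₂ hg₂ => hext S' _ _ fun j y => ?_⟩
  · change u' (g ((st j).φ y)) = u ((st j).φ y)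
    rw [hg]
    exact AlgHom.congr_fun (hτ j) y
  · rw [hg]
    exact AlgHom.congr_fun (hτu j (g₂.comp (st j).φ) (by
      change u'.comp (g₂.comp (st j).φ) = u.comp (st j).φ
      rw [← AlgHom.comp_assoc, hg₂])) y

end Groth.Agent.IndEtLib
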